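import Cfsg.Agent.Fusion.Biset.TransferInvariant
import Cfsg.Agent.Fusion.NormalCriteria
import Cfsg.Agent.CoprimeAction.Frattini

/-!
Tate's theorem for the focal subgroup of a fusion system: equality modulo the Frattini subgroup gives equality.
-/

set_option autoImplicit false
set_option linter.style.haveILetI false

open Cfsg

namespace CfsgLib.Fusion

open Cfsg.FusionSystem
open scoped commutatorElement

universe u v

variable {Ω : Type u} [Group Ω] {S : Subgroup Ω} [Finite S] {F : Cfsg.FusionSystem S} {p : ℕ} [Fact p.Prime]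

lemma focalSubgroup_le (F : Cfsg.FusionSystem S) : F.focalSubgroup ≤ S := by
  refine (Subgroup.closure_le _).2 ?_
  rintro _ ⟨P, φ, x, hφ, rfl⟩
  exact S.mul_mem (S.inv_mem (le_of_hom hφ x.2)) (val_mem hφ x)

omit [Finite S] in
lemma commutator_le_focalSubgroup (F : Cfsg.FusionSystem S) :
    ⁅(S : Subgroup Ω), (S : Subgroup Ω)⁆ ≤ F.focalSubgroup := by
  refine Subgroup.commutator_le.2 fun a ha b hb => ?_
  refine Subgroup.subset_closure ⟨S, Cfsg.conjHom S b, ⟨a⁻¹, S.inv_mem ha⟩, F.conj_mem le_rfl hb, ?_⟩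
  show ⁅a, b⁆ = a⁻¹⁻¹ * (b * a⁻¹ * b⁻¹)
  simp [commutatorElement_def, mul_assoc]

omit [Finite S] in
lemma focalSubgroup_mono {H : Cfsg.FusionSystem S} (h : H.IsSubsystemOf F) : H.focalSubgroup ≤ F.focalSubgroup :=
  Subgroup.closure_mono fun _ ⟨P, φ, x, hφ, he⟩ => ⟨P, φ, x, h P hφ, he⟩

omit [Finite S] in
lemma hyperfocalSubgroup_le (F : Cfsg.FusionSystem S) : F.hyperfocalSubgroup p ≤ S := by
  refine (Subgroup.closure_le _).2 ?_
  rintro _ ⟨P, α, x, hP, -, rfl⟩
  exact S.mul_mem (S.inv_mem (hP x.2)) (hP ((α : MulAut P) x).2)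

omit [Finite S] in
/-- The transfer commutes with homomorphisms of the abelian groups. -/
lemma btransfer_map [Finite S] {n : Subgroup (S × S) → ℕ}
    (hn : ∀ H, n H ≠ 0 → CfsgLib.Biset.IsFGraph F H) {A : Type v} {B : Type v} [CommGroup A] [CommGroup B]
    (f : S →* A) (π : A →* B) (z : S) :
    π (CfsgLib.Biset.btransfer hn f z) = CfsgLib.Biset.btransfer hn (π.comp f) z := by
  simp only [CfsgLib.Biset.btransfer, MonoidHom.finsetProd_apply, map_prod]
  refine Finset.prod_congr rfl fun j _ => ?_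
  rw [MonoidHom.transfer_def _ (default : (CfsgLib.Biset.sndR j.1).LeftTransversal),
    MonoidHom.transfer_def _ (default : (CfsgLib.Biset.sndR j.1).LeftTransversal),
    Subgroup.leftTransversals.diff, Subgroup.leftTransversals.diff, map_prod]
  rfl

/-- If the focal subgroups of `F` and of a subsystem agree modulo the Frattini subgroup, they agree. -/
theorem focalSubgroup_eq_of_frattini (hS : IsPGroup p S) (hF : F.IsSaturated p) {H : Cfsg.FusionSystem S}
    (hHF : H.IsSubsystemOf F)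
    (h : F.focalSubgroup ≤ (frattini ↥S).map S.subtype ⊔ H.focalSubgroup) :
    F.focalSubgroup = H.focalSubgroup := by
  classical
  refine le_antisymm ?_ (focalSubgroup_mono hHF)
  set X := H.focalSubgroup.comap S.subtype with hXdef
  have hcX : commutator S ≤ X := by
    rw [commutator_def, Subgroup.commutator_le]
    rintro a - b -
    exact commutator_le_focalSubgroup H (Subgroup.commutator_mem_commutator a.2 b.2)
  let f : S →* Abelianization S ⧸ X.map Abelianization.of :=
    (QuotientGroup.mk' _).comp Abelianization.of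
  have hker : ∀ w : S, f w = 1 ↔ w ∈ X := by
    intro w
    show ((Abelianization.of w : Abelianization S) : Abelianization S ⧸ X.map Abelianization.of) = 1 ↔ _
    rw [QuotientGroup.eq_one_iff]
    refine ⟨?_, fun h => ⟨w, h, rfl⟩⟩
    rintro ⟨v, hv, hvw⟩
    have h1 : v⁻¹ * w ∈ X := hcX (by
      rw [← Abelianization.ker_of]
      show Abelianization.of (v⁻¹ * w) = 1
      rw [map_mul, map_inv, hvw, inv_mul_cancel])
    have := X.mul_mem hv h1
    rwa [mul_inv_cancel_left] at this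
  set K := (F.focalSubgroup.comap S.subtype).map f with hK
  suffices hK1 : K = ⊥ by
    intro y hy
    have h1 : f ⟨y, focalSubgroup_le F hy⟩ ∈ K := ⟨_, hy, rfl⟩
    rw [hK1, Subgroup.mem_bot] at h1
    exact (hker _).1 h1
  obtain ⟨n, hn, hst, hdeg⟩ := CfsgLib.Biset.exists_stable hS hF
  -- the transfer agrees with the power by the degree modulo `K`
  have hmod : ∀ z : S, (f z ^ CfsgLib.Biset.degree n)⁻¹ * CfsgLib.Biset.btransfer hn f z ∈ K := by
    intro z
    rw [← QuotientGroup.eq_one_iff, QuotientGroup.mk_mul, QuotientGroup.mk_inv, inv_mul_eq_one]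
    show _ = (QuotientGroup.mk' K) (CfsgLib.Biset.btransfer hn f z)
    rw [btransfer_map hn f (QuotientGroup.mk' K) z, CfsgLib.Biset.btransfer_eq_pow hn _ (z := z) ?_]
    · exact (map_pow (QuotientGroup.mk' K) _ _)
    intro H' hH' g a k hak
    obtain ⟨U, φ, hφ, rfl⟩ := hn H' hH'
    obtain ⟨ha, hab⟩ := hak
    set w : S := g⁻¹ * z ^ k * g with hw
    have h1 : QuotientGroup.mk' K (f (a⁻¹ * w)) = 1 := by
      refine (QuotientGroup.eq_one_iff _).2 ⟨a⁻¹ * w, ?_, rfl⟩
      show (a : Ω)⁻¹ * (w : Ω) ∈ F.focalSubgroup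
      exact Subgroup.subset_closure ⟨U, φ, ⟨a, ha⟩, hφ, by rw [hab]⟩
    rw [map_mul, map_inv, map_mul, map_inv, inv_mul_eq_one] at h1
    refine h1.trans ?_
    simp only [hw, map_mul, map_inv, map_pow, MonoidHom.comp_apply]
    rw [mul_right_comm, inv_mul_cancel, one_mul]
  -- `K` consists of `p`th powers
  have hpow : ∀ k ∈ K, ∃ a : S, k = f a ^ p := by
    let P' : Subgroup S := ((powMonoidHom p).range.comap f)
    have hP' : frattini S ≤ P' := by
      refine CfsgLib.CoprimeAction.frattini_le_of_elementary P' ?_ fun x => ⟨f x, (map_pow f x p).symm⟩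
      exact fun x hx => ⟨1, by rw [map_one]; exact ((hker x).2 (hcX hx)).symm⟩
    have hle : F.focalSubgroup ≤ (P' ⊓ ⊤).map S.subtype := by
      rw [inf_top_eq]
      refine h.trans (sup_le (Subgroup.map_mono hP') fun y hy => ?_)
      exact ⟨⟨y, focalSubgroup_le H hy⟩, ⟨1, by rw [map_one]; exact ((hker ⟨y, focalSubgroup_le H hy⟩).2 hy).symm⟩, rfl⟩
    rintro _ ⟨y, hy, rfl⟩
    obtain ⟨y', ⟨⟨c, hc⟩, -⟩, hyy⟩ := hle hy
    obtain rfl : y' = y := Subtype.ext hyy
    obtain ⟨c', rfl⟩ : ∃ a, f a = c := by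
      obtain ⟨c', rfl⟩ := QuotientGroup.mk'_surjective _ c
      obtain ⟨c'', rfl⟩ := QuotientGroup.mk'_surjective _ c'
      exact ⟨c'', rfl⟩
    exact ⟨c', hc.symm⟩
  -- `K` consists of `p`th powers of its own elements
  have hself : ∀ k ∈ K, ∃ k' ∈ K, k = k' ^ p := by
    intro k hk
    obtain ⟨a, ha⟩ := hpow k hk
    obtain ⟨y, hy, hyk⟩ := id hk
    set κ := (f a ^ CfsgLib.Biset.degree n)⁻¹ * CfsgLib.Biset.btransfer hn f a with hκ
    have h1 : CfsgLib.Biset.btransfer hn f (a ^ p * (a ^ p)⁻¹ * y) = 1 := by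
      rw [mul_inv_cancel, one_mul]
      exact CfsgLib.Biset.btransfer_focal hn hst f hy
    have h2 : CfsgLib.Biset.btransfer hn f ((a ^ p)⁻¹ * y) = 1 := by
      refine CfsgLib.Biset.btransfer_focal hn hst f (focalSubgroup_mono hHF ?_)
      refine (hker ((a ^ p)⁻¹ * y)).1 ?_
      rw [map_mul, map_inv, map_pow, hyk, ha, inv_mul_cancel]
    rw [mul_assoc, map_mul, h2, mul_one, map_pow,
      show CfsgLib.Biset.btransfer hn f a = f a ^ CfsgLib.Biset.degree n * κ by rw [hκ, mul_inv_cancel_left],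
      mul_pow, ← pow_mul, mul_comm (CfsgLib.Biset.degree n) p, pow_mul, ← ha] at h1
    -- `k ^ d` is a `p`th power in `K`
    have h3 : k ^ CfsgLib.Biset.degree n = (κ⁻¹) ^ p := by
      rw [inv_pow]; exact eq_inv_of_mul_eq_one_left h1
    obtain ⟨m, hm⟩ := hS y
    have hd : (orderOf k).Coprime (CfsgLib.Biset.degree n) := by
      refine Nat.Coprime.coprime_dvd_left (orderOf_dvd_of_pow_eq_one (n := p ^ m) ?_)
        (Nat.Coprime.pow_left m ((Nat.Prime.coprime_iff_not_dvd Fact.out).2 hdeg))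
      rw [← hyk, ← map_pow, hm, map_one]
    obtain ⟨e, he⟩ := exists_pow_eq_self_of_coprime hd.symm
    refine ⟨κ⁻¹ ^ e, K.pow_mem (K.inv_mem (hmod a)) e, ?_⟩
    rw [← pow_mul, mul_comm e p, pow_mul, ← h3, he]
  have hiter : ∀ m : ℕ, ∀ k ∈ K, ∃ k' ∈ K, k = k' ^ p ^ m := by
    intro m
    induction m with
    | zero => exact fun k hk => ⟨k, hk, by simp⟩
    | succ m ih =>
      intro k hk
      obtain ⟨k', hk', rfl⟩ := ih k hk
      obtain ⟨k'', hk'', rfl⟩ := hself k' hk'
      exact ⟨k'', hk'', by rw [← pow_mul, pow_succ']⟩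
  obtain ⟨m, hm⟩ := IsPGroup.iff_card.1 hS
  rw [Subgroup.eq_bot_iff_forall]
  intro k hk
  obtain ⟨k', hk', rfl⟩ := hiter m k hk
  obtain ⟨y, -, rfl⟩ := hk'
  rw [← map_pow, ← hm, pow_card_eq_one', map_one]

end CfsgLib.Fusion
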