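import Cfsg.Agent.Fusion.Tate.Monomial
import Cfsg.Agent.Fusion.Tate.Focal

/-!
Tate's theorem for the hyperfocal subgroup of a fusion system.
-/

set_option autoImplicit false
set_option linter.style.haveILetI false

open Cfsg

namespace CfsgLib.Fusion

open Cfsg.FusionSystem
open scoped commutatorElement IsMulCommutative

universe u

variable {Ω : Type u} [Group Ω] {S : Subgroup Ω} {F : Cfsg.FusionSystem S} {p : ℕ} [Fact p.Prime]

omit [Fact p.Prime] in
/-- The hyperfocal subgroup is normalized by `S`. -/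
lemma hyperfocal_normal (F : Cfsg.FusionSystem S) : ((F.hyperfocalSubgroup p).subgroupOf S).Normal := by
  constructor
  intro y hy s
  show (s : Ω) * y * (s : Ω)⁻¹ ∈ F.hyperfocalSubgroup p
  have hle : F.hyperfocalSubgroup p ≤ (F.hyperfocalSubgroup p).comap (MulAut.conj (s : Ω)).toMonoidHom := by
    refine (Subgroup.closure_le _).2 ?_
    rintro _ ⟨P, α, x, hP, hα, rfl⟩
    show (s : Ω) * ((x : Ω)⁻¹ * ((α : MulAut P) x : P)) * (s : Ω)⁻¹ ∈ F.hyperfocalSubgroup p
    revert x
    refine Subgroup.closure_induction (p := fun (a : F.autGroup P) _ => ∀ x : P,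
      (s : Ω) * ((x : Ω)⁻¹ * ((a : MulAut P) x : P)) * (s : Ω)⁻¹ ∈ F.hyperfocalSubgroup p) ?_ ?_ ?_ ?_ hα
    · intro a ha x
      set P' := P.map (MulAut.conj (s : Ω)).toMonoidHom with hP'
      have hP'S : P' ≤ S := by
        rintro _ ⟨z, hz, rfl⟩
        exact S.mul_mem (S.mul_mem s.2 (hP hz)) (S.inv_mem s.2)
      let e : P ≃* P' := P.equivMapOfInjective _ (MulAut.conj (s : Ω)).injective
      have he : IsoIn F e := mem_of_eq (F.conj_mem hP s.2) fun z => rfl
      refine Subgroup.subset_closure ⟨P', ⟨_, IsoIn.congr_mem he a.2⟩, e x, hP'S, ?_, ?_⟩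
      · refine Subgroup.subset_closure (show (orderOf _).Coprime p from ?_)
        rw [← Subgroup.orderOf_coe]
        show (orderOf (MulAut.congr e (a : MulAut P))).Coprime p
        rw [show orderOf (MulAut.congr e (a : MulAut P)) = orderOf (a : MulAut P) from
          orderOf_injective (MulAut.congr e).toMonoidHom (MulAut.congr e).injective _, Subgroup.orderOf_coe]
        exact ha
      · show _ = ((e x : P') : Ω)⁻¹ * ((e ((a : MulAut P) (e.symm (e x))) : P') : Ω)
        rw [MulEquiv.symm_apply_apply]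
        show _ = ((s : Ω) * x * (s : Ω)⁻¹)⁻¹ * ((s : Ω) * ((a : MulAut P) x : P) * (s : Ω)⁻¹)
        group
    · intro x
      simp
    · intro a b _ _ ha hb x
      have := (F.hyperfocalSubgroup p).mul_mem (hb x) (ha ((b : MulAut P) x))
      show (s : Ω) * ((x : Ω)⁻¹ * ((a : MulAut P) ((b : MulAut P) x) : P)) * (s : Ω)⁻¹ ∈ _
      simpa [mul_assoc] using this
    · intro a _ ha x
      have := (F.hyperfocalSubgroup p).inv_mem (ha ((a : MulAut P)⁻¹ x))
      rw [MulAut.apply_inv_self] at this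
      show (s : Ω) * ((x : Ω)⁻¹ * (((a : MulAut P)⁻¹) x : P)) * (s : Ω)⁻¹ ∈ _
      simpa [mul_assoc] using this
  exact hle hy

variable [Finite S]

omit [Finite S] [Fact p.Prime] in
/-- The hyperfocal subgroup is monotone. -/
lemma hyperfocalSubgroup_mono {H : Cfsg.FusionSystem S} (hHF : H.IsSubsystemOf F) :
    H.hyperfocalSubgroup p ≤ F.hyperfocalSubgroup p := by
  have hmono : ∀ (P : Subgroup Ω) (a : H.autGroup P), a ∈ Cfsg.pResidual p (H.autGroup P) → P ≤ S →
      ∃ b ∈ Cfsg.pResidual p (F.autGroup P), ∀ x : P, (b : MulAut P) x = (a : MulAut P) x := by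
    intro P a ha hP
    have hle : H.autGroup P ≤ F.autGroup P :=
      Subgroup.closure_mono (h := {β : MulAut P | P.subtype.comp β.toMonoidHom ∈ H.Hom P})
        (k := {β : MulAut P | P.subtype.comp β.toMonoidHom ∈ F.Hom P}) fun β hβ => hHF P hβ
    refine ⟨Subgroup.inclusion hle a, ?_, fun x => rfl⟩
    have h1 : Cfsg.pResidual p (H.autGroup P) ≤ (Cfsg.pResidual p (F.autGroup P)).comap (Subgroup.inclusion hle) := by
      refine (Subgroup.closure_le _).2 fun c hc => Subgroup.subset_closure ?_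
      show (orderOf (Subgroup.inclusion hle c)).Coprime p
      rw [orderOf_injective _ (Subgroup.inclusion_injective hle)]
      exact hc
    exact h1 ha
  refine (Subgroup.closure_le _).2 ?_
  rintro _ ⟨P, a, x, hP, ha, rfl⟩
  obtain ⟨b, hb, hba⟩ := hmono P a ha hP
  exact Subgroup.subset_closure ⟨P, b, x, hP, hb, by rw [hba]⟩

/-- One step down the central series. -/
theorem hyperfocal_le_step (hS : IsPGroup p S) (hF : F.IsSaturated p) {T R : Subgroup S} [T.Normal] [R.Normal]
    {X : Subgroup S} (hX : ∀ y : S, y ∈ X → (y : Ω) ∈ F.hyperfocalSubgroup p) (hXR : X ≤ R)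
    (hTX : T ≤ X ⊔ commutator S)
    (hT : ∀ y : S, (y : Ω) ∈ F.hyperfocalSubgroup p → y ∈ T) (hTR : ⁅T, (⊤ : Subgroup S)⁆ ≤ R) :
    ∀ y : S, (y : Ω) ∈ F.hyperfocalSubgroup p → y ∈ R := by
  classical
  obtain ⟨d, β, hd, hβ⟩ := exists_monomial hS hF hT hTR
  let γ : T →* Subgroup.center (S ⧸ R) :=
    MonoidHom.mk' (fun y => ⟨QuotientGroup.mk' R y, mk_mem_center hTR y.2⟩) fun a b => Subtype.ext rfl
  let t : T →* Subgroup.center (S ⧸ R) := β.comp T.subtype * ((powMonoidHom d).comp γ)⁻¹
  have ht : ∀ y : T, t y = 1 ↔ β y = γ y ^ d := fun y => mul_inv_eq_one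
  have htconj : ∀ (y : T) (s : S), t ⟨s * y * s⁻¹, Subgroup.Normal.conj_mem inferInstance _ y.2 s⟩ = t y := by
    intro y s
    have h1 : γ ⟨s * y * s⁻¹, Subgroup.Normal.conj_mem inferInstance _ y.2 s⟩ = γ y := by
      apply Subtype.ext
      show QuotientGroup.mk' R (s * y * s⁻¹) = QuotientGroup.mk' R y
      rw [map_mul, map_mul, Subgroup.mem_center_iff.1 (mk_mem_center hTR y.2) _, map_inv, mul_inv_cancel_right]
    show β (s * y * s⁻¹) * ((γ ⟨_, _⟩) ^ d)⁻¹ = β y * (γ y ^ d)⁻¹
    rw [h1, map_mul, map_mul, map_inv, mul_right_comm (β s), mul_inv_cancel, one_mul]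
  have hmain : ∀ z : Ω, z ∈ F.hyperfocalSubgroup p → z ∈ ((t.ker).map T.subtype).map S.subtype := by
    intro z hz
    refine (Subgroup.closure_le _).2 ?_ hz
    rintro _ ⟨P, α, x, hP, hα, rfl⟩
    have hmemT : ∀ (a : F.autGroup P), a ∈ Cfsg.pResidual p (F.autGroup P) → ∀ x : P,
        (⟨x, hP x.2⟩ : S)⁻¹ * ⟨((a : MulAut P) x : P), hP ((a : MulAut P) x).2⟩ ∈ T := fun a ha x =>
      hT _ (Subgroup.subset_closure ⟨P, a, x, hP, ha, rfl⟩)
    let sS : P → S := fun x => ⟨x, hP x.2⟩
    suffices h : ∀ x : P, ∃ hm : (sS x)⁻¹ * sS ((α : MulAut P) x) ∈ T, t ⟨_, hm⟩ = 1 by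
      obtain ⟨hm, h1⟩ := h x
      exact ⟨_, ⟨_, h1, rfl⟩, rfl⟩
    refine Subgroup.closure_induction (p := fun (a : F.autGroup P) _ => ∀ x : P, ∃ hm : (sS x)⁻¹ * sS ((a : MulAut P) x) ∈ T,
      t ⟨_, hm⟩ = 1) ?_ ?_ ?_ ?_ hα
    · -- an automorphism of order prime to `p`
      intro a ha x
      have hmT : ∀ x, (sS x)⁻¹ * sS ((a : MulAut P) x) ∈ T := hmemT a (Subgroup.subset_closure ha)
      let A : P → Subgroup.center (S ⧸ R) := fun x => t ⟨_, hmT x⟩
      have hA : ∀ x x', A (x * x') = A x * A x' := by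
        intro x x'
        show t _ = t _ * t _
        rw [← htconj ⟨_, hmT x⟩ (sS x')⁻¹, ← map_mul]
        refine congrArg t (Subtype.ext ?_)
        show (sS (x * x'))⁻¹ * sS ((a : MulAut P) (x * x')) =
          (sS x')⁻¹ * ((sS x)⁻¹ * sS ((a : MulAut P) x)) * (sS x')⁻¹⁻¹ * ((sS x')⁻¹ * sS ((a : MulAut P) x'))
        rw [map_mul, show sS (x * x') = sS x * sS x' from rfl,
          show sS ((a : MulAut P) x * (a : MulAut P) x') = sS ((a : MulAut P) x) * sS ((a : MulAut P) x') from rfl]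
        group
      have hAT : ∀ x, sS x ∈ T → A x = 1 := by
        intro x hx
        have hax : sS ((a : MulAut P) x) ∈ T := by
          have := T.mul_mem hx (hmT x)
          rwa [mul_inv_cancel_left] at this
        have h1 := hβ P _ ((mem_autGroup hP).1 a.2) x hx hax
        refine (ht _).2 (Subtype.ext ?_)
        show ((β ((sS x)⁻¹ * sS ((a : MulAut P) x)) : Subgroup.center (S ⧸ R)) : S ⧸ R) = _
        rw [map_mul, map_inv]
        show ((β (sS x) : Subgroup.center (S ⧸ R)) : S ⧸ R)⁻¹ * (β (sS ((a : MulAut P) x)) : Subgroup.center (S ⧸ R)) = _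
        rw [show ((β (sS ((a : MulAut P) x)) : Subgroup.center (S ⧸ R)) : S ⧸ R) = _ from h1, inv_mul_cancel_left]
        rfl
      have hinv : ∀ x, A ((a : MulAut P) x) = A x := by
        intro x
        have h1 := hA x (x⁻¹ * (a : MulAut P) x)
        rw [mul_inv_cancel_left, hAT (x⁻¹ * (a : MulAut P) x) (hmT x), mul_one] at h1
        exact h1
      have hpowA : ∀ (j : ℕ) (x : P), ∃ hm : (sS x)⁻¹ * sS (((a : MulAut P) ^ j) x) ∈ T, t ⟨_, hm⟩ = A x ^ j := by
        intro j
        induction j with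
        | zero =>
          intro x
          refine ⟨by simp, ?_⟩
          rw [pow_zero (A x), ← map_one t]
          exact congrArg t (Subtype.ext (by simp))
        | succ j ih =>
          intro x
          obtain ⟨hm, h1⟩ := ih ((a : MulAut P) x)
          have he : ((a : MulAut P) ^ (j + 1)) x = ((a : MulAut P) ^ j) ((a : MulAut P) x) := by
            rw [pow_succ]; rfl
          refine ⟨?_, ?_⟩
          · have := T.mul_mem (hmT x) hm
            rw [mul_assoc, mul_inv_cancel_left] at this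
            rwa [he]
          · rw [pow_succ' (A x), show A x = t ⟨_, hmT x⟩ from rfl]
            rw [hinv] at h1
            rw [← h1, ← map_mul]
            refine congrArg t (Subtype.ext ?_)
            show (sS x)⁻¹ * sS (((a : MulAut P) ^ (j + 1)) x) =
              (sS x)⁻¹ * sS ((a : MulAut P) x) * ((sS ((a : MulAut P) x))⁻¹ * sS (((a : MulAut P) ^ j) ((a : MulAut P) x)))
            rw [he, mul_assoc, mul_inv_cancel_left]
      obtain ⟨hm, h1⟩ := hpowA (orderOf (a : MulAut P)) x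
      have h2 : A x ^ orderOf (a : MulAut P) = 1 := by
        rw [← h1, ← map_one t]
        refine congrArg t (Subtype.ext ?_)
        show (sS x)⁻¹ * sS (((a : MulAut P) ^ orderOf (a : MulAut P)) x) = 1
        rw [pow_orderOf_eq_one, show ((1 : MulAut P) x) = x from rfl, inv_mul_cancel]
      obtain ⟨m, hm'⟩ := ((hS.to_quotient R).to_subgroup (Subgroup.center (S ⧸ R))) (A x)
      refine ⟨hmT x, ?_⟩
      show A x = 1
      refine orderOf_eq_one_iff.1 (Nat.eq_one_of_dvd_coprimes ?_ (orderOf_dvd_of_pow_eq_one hm')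
        (orderOf_dvd_of_pow_eq_one h2))
      rw [Subgroup.orderOf_coe]
      exact (Nat.Coprime.pow_left m (ha : (orderOf a).Coprime p).symm)
    · intro x
      refine ⟨by simp, ?_⟩
      rw [← map_one t]
      exact congrArg t (Subtype.ext (by simp))
    · intro a b _ _ ha hb x
      obtain ⟨hmb, h1⟩ := hb x
      obtain ⟨hma, h2⟩ := ha ((b : MulAut P) x)
      refine ⟨?_, ?_⟩
      · have := T.mul_mem hmb hma
        rw [mul_assoc, mul_inv_cancel_left] at this
        exact this
      · rw [← one_mul (1 : Subgroup.center (S ⧸ R))]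
        nth_rewrite 1 [← h1]
        rw [← h2, ← map_mul]
        refine congrArg t (Subtype.ext ?_)
        show (sS x)⁻¹ * sS ((a : MulAut P) ((b : MulAut P) x)) = _ * _
        rw [mul_assoc, mul_inv_cancel_left]
    · intro a _ ha x
      obtain ⟨hm, h1⟩ := ha ((a : MulAut P)⁻¹ x)
      have e : (sS x)⁻¹ * sS ((a : MulAut P)⁻¹ x) =
          ((sS ((a : MulAut P)⁻¹ x))⁻¹ * sS ((a : MulAut P) ((a : MulAut P)⁻¹ x)))⁻¹ := by
        rw [MulAut.apply_inv_self, mul_inv_rev, inv_inv]
      refine ⟨?_, ?_⟩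
      · show (sS x)⁻¹ * sS ((a : MulAut P)⁻¹ x) ∈ T
        rw [e]; exact T.inv_mem hm
      · rw [← inv_one, ← h1, ← map_inv]
        exact congrArg t (Subtype.ext e)
  have hγβ : ∀ y : S, (y : Ω) ∈ F.hyperfocalSubgroup p → ∃ hy : y ∈ T, β y = γ ⟨y, hy⟩ ^ d := by
    intro y hy
    obtain ⟨_, ⟨k, hk, rfl⟩, hky⟩ := hmain _ hy
    obtain rfl : (k : S) = y := Subtype.ext hky
    exact ⟨k.2, (ht k).1 hk⟩
  intro y hy
  obtain ⟨hyT, hyβ⟩ := hγβ y hy
  have hker : T ≤ β.ker := by
    refine hTX.trans (sup_le (fun r hr => ?_) (Abelianization.commutator_subset_ker β))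
    obtain ⟨hrT, hrβ⟩ := hγβ r (hX r hr)
    have : γ ⟨r, hrT⟩ = 1 := Subtype.ext ((QuotientGroup.eq_one_iff r).2 (hXR hr))
    rw [this, one_pow] at hrβ
    exact hrβ
  rw [(hker hyT : β y = 1)] at hyβ
  obtain ⟨m, hm⟩ := hS y
  have h1 : γ ⟨y, hyT⟩ = 1 := by
    refine orderOf_eq_one_iff.1 (Nat.eq_one_of_dvd_coprimes ?_ (orderOf_dvd_of_pow_eq_one (n := p ^ m) ?_)
      (orderOf_dvd_of_pow_eq_one hyβ.symm))
    · exact Nat.Coprime.pow_left m ((Nat.Prime.coprime_iff_not_dvd Fact.out).2 hd)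
    · rw [← map_pow, show (⟨y, hyT⟩ : T) ^ p ^ m = 1 from Subtype.ext hm, map_one]
  exact (QuotientGroup.eq_one_iff y).1 (congrArg Subtype.val h1)

/-- Tate's theorem: equal focal subgroups give equal hyperfocal subgroups. -/
theorem hyperfocal_le_of_focal (hS : IsPGroup p S) (hF : F.IsSaturated p) {H : Cfsg.FusionSystem S}
    (hH : H.IsSaturated p) (hHF : H.IsSubsystemOf F) (h : F.focalSubgroup = H.focalSubgroup) :
    F.hyperfocalSubgroup p ≤ H.hyperfocalSubgroup p := by
  set X := (H.hyperfocalSubgroup p).subgroupOf S with hXdef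
  haveI hXn : X.Normal := hyperfocal_normal H
  have hHle := hyperfocalSubgroup_mono (p := p) hHF
  let T : ℕ → Subgroup S := fun k => X ⊔ (⊤ : Subgroup S).lowerCentralSeries (k + 1)
  have hstep : ∀ k, ∀ y : S, (y : Ω) ∈ F.hyperfocalSubgroup p → y ∈ T k := by
    intro k
    induction k with
    | zero =>
      intro y hy
      have h1 : (y : Ω) ∈ H.hyperfocalSubgroup p ⊔ ⁅(S : Subgroup Ω), (S : Subgroup Ω)⁆ := by
        rw [← focalSubgroup_eq hS hH, ← h, focalSubgroup_eq hS hF]
        exact Subgroup.mem_sup_left hy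
      have h2 : H.hyperfocalSubgroup p ⊔ ⁅(S : Subgroup Ω), (S : Subgroup Ω)⁆ = (T 0).map S.subtype := by
        show _ = (X ⊔ (⊤ : Subgroup S).lowerCentralSeries 1).map S.subtype
        rw [Subgroup.map_sup, hXdef, Subgroup.map_subgroupOf_eq_of_le (hyperfocalSubgroup_le H),
          Subgroup.top_lowerCentralSeries_one, commutator_def, Subgroup.map_commutator, ← MonoidHom.range_eq_map,
          Subgroup.range_subtype]
      rw [h2] at h1
      obtain ⟨y', hy', he⟩ := h1
      rwa [← (Subtype.ext he : y' = y)]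
    | succ k ih =>
      refine hyperfocal_le_step hS hF (T := T k) (R := T (k + 1)) (X := X) (fun y hy => hHle hy) le_sup_left ?_ ih ?_
      · refine sup_le_sup_left ?_ X
        rw [← Subgroup.top_lowerCentralSeries_one]
        exact (⊤ : Subgroup S).lowerCentralSeries_antitone (Nat.le_add_left 1 k)
      · rw [Subgroup.commutator_le]
        intro a ha b _
        have h1 : T k ≤ (Subgroup.center (S ⧸ T (k + 1))).comap (QuotientGroup.mk' (T (k + 1))) := by
          refine sup_le (fun c hc => ?_) fun c hc => ?_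
          · show QuotientGroup.mk' (T (k + 1)) c ∈ Subgroup.center (S ⧸ T (k + 1))
            rw [(QuotientGroup.eq_one_iff c).2 (Subgroup.mem_sup_left hc) |> fun e => (show QuotientGroup.mk' (T (k + 1)) c = 1 from e)]
            exact Subgroup.one_mem _
          · refine mk_mem_center (T := (⊤ : Subgroup S).lowerCentralSeries (k + 1)) ?_ hc
            exact le_sup_right.trans' (le_of_eq rfl)
        have h2 := Subgroup.mem_center_iff.1 (h1 ha) (QuotientGroup.mk' _ b)
        refine (QuotientGroup.eq_one_iff _).1 ?_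
        show QuotientGroup.mk' (T (k + 1)) ⁅a, b⁆ = 1
        rw [map_commutatorElement, commutatorElement_eq_one_iff_mul_comm]
        exact h2.symm
  haveI := hS.isNilpotent
  obtain ⟨k, hk⟩ := Subgroup.nilpotent_iff_lowerCentralSeries.1 (inferInstance : Group.IsNilpotent S)
  intro z hz
  have hzS := hyperfocalSubgroup_le F hz
  have h1 := hstep k ⟨z, hzS⟩ hz
  rw [show T k = X from sup_eq_left.2 (((⊤ : Subgroup S).lowerCentralSeries_antitone (Nat.le_add_right k 1)).trans (hk.le.trans bot_le))] at h1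
  exact h1

end CfsgLib.Fusion
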