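import Cfsg.Agent.Fusion.Biset.Transfer
import Cfsg.Agent.Fusion.NormalCriteria

/-!
The monomial transfer of a saturated fusion system into a central section of `S`.
-/

set_option autoImplicit false
set_option linter.style.haveILetI false

open Cfsg

namespace CfsgLib.Fusion

open Cfsg.FusionSystem
open CfsgLib.Biset
open scoped commutatorElement IsMulCommutative

universe u

variable {Ω : Type u} [Group Ω] {S : Subgroup Ω} [Finite S] {F : Cfsg.FusionSystem S} {p : ℕ} [Fact p.Prime]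

/-- Modulo a normal subgroup containing the hyperfocal subgroup every map is a conjugation. -/
theorem exists_conj_mod_hyperfocal (hS : IsPGroup p S) (hF : F.IsSaturated p) {T : Subgroup S} [T.Normal]
    (hT : ∀ y : S, (y : Ω) ∈ F.hyperfocalSubgroup p → y ∈ T) {P : Subgroup Ω} {φ : P →* Ω} (hφ : φ ∈ F.Hom P) :
    ∃ w : S, ∀ x : P, QuotientGroup.mk' T (⟨φ x, val_mem hφ x⟩ : S) =
      QuotientGroup.mk' T w * QuotientGroup.mk' T ⟨x, le_of_hom hφ x.2⟩ * (QuotientGroup.mk' T w)⁻¹ := by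
  let E : Cfsg.FusionSystem S :=
    { Hom := fun P => {φ | ∃ (h : φ ∈ F.Hom P) (w : S), ∀ x : P, QuotientGroup.mk' T (⟨φ x, val_mem h x⟩ : S) =
        QuotientGroup.mk' T w * QuotientGroup.mk' T ⟨x, le_of_hom h x.2⟩ * (QuotientGroup.mk' T w)⁻¹}
      le_of_mem := fun h => F.le_of_mem h.1
      injective_of_mem := fun h => F.injective_of_mem h.1
      conj_mem := fun {P g} hP hg => ⟨F.conj_mem hP hg, ⟨g, hg⟩, fun x => by
        rw [← map_inv, ← map_mul, ← map_mul]
        rfl⟩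
      comp_mem := fun {P R φ ψ} hφ hψ h => by
        obtain ⟨hφ, w, hw⟩ := hφ
        obtain ⟨hψ, v, hv⟩ := hψ
        refine ⟨F.comp_mem hφ hψ h, v * w, fun x => ?_⟩
        refine (hv ⟨φ x, h x⟩).trans ?_
        rw [show (⟨((⟨φ x, h x⟩ : R) : Ω), le_of_hom hψ (h x)⟩ : S) = ⟨φ x, val_mem hφ x⟩ from rfl, hw x, map_mul,
          mul_inv_rev]
        simp only [mul_assoc]
      inv_mem := fun {P φ} hφ => by
        obtain ⟨hφ, w, hw⟩ := hφ
        obtain ⟨ψ, hψ, hψφ⟩ := F.inv_mem hφ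
        refine ⟨ψ, ⟨hψ, w⁻¹, ?_⟩, hψφ⟩
        rintro ⟨_, x, rfl⟩
        rw [show (⟨ψ ⟨φ x, ⟨x, rfl⟩⟩, val_mem hψ _⟩ : S) = ⟨x, le_of_hom hφ x.2⟩ from Subtype.ext (hψφ x),
          show (⟨φ x, le_of_hom hψ ⟨x, rfl⟩⟩ : S) = ⟨φ x, val_mem hφ x⟩ from rfl, hw x, map_inv]
        group }
  suffices hFE : F ≤ E from (hFE P hφ).2
  refine le_of_centricRadical hS hF E fun R hn _ _ => ?_
  haveI := finite_mulAut (S := S) hn.1
  obtain ⟨-, U, hU⟩ := fullyAutomized_of_fullyNormalized hS hF hn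
  intro α hα
  have h1 := (CfsgLib.Transfer.pResidual_sup_sylow (p := p) U).ge (Subgroup.mem_top (⟨α, hα⟩ : F.autGroup R))
  have h2 : Cfsg.pResidual p (F.autGroup R) ⊔ (U : Subgroup (F.autGroup R)) ≤
      (E.autGroup R).subgroupOf (F.autGroup R) := by
    refine sup_le (fun δ hδ => ?_) ?_
    · have hδm := (mem_autGroup hn.1).1 δ.2
      refine (mem_autGroup hn.1).2 ⟨hδm, 1, fun x => ?_⟩
      rw [map_one, one_mul, inv_one, mul_one, eq_comm, ← inv_mul_eq_one, ← map_inv, ← map_mul]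
      exact (QuotientGroup.eq_one_iff _).2 (hT _ (Subgroup.subset_closure ⟨R, δ, x, hn.1, hδ, rfl⟩))
    · rw [hU]
      exact fun δ hδ => autInducedBy_le_autGroup (F := E) hn.1 hδ
  exact h2 h1

omit [Fact p.Prime] in
/-- The image of `T` in `S ⧸ R` is central when `⁅T, S⁆ ≤ R`. -/
lemma mk_mem_center {T R : Subgroup S} [R.Normal] (h : ⁅T, (⊤ : Subgroup S)⁆ ≤ R) {x : S} (hx : x ∈ T) :
    QuotientGroup.mk' R x ∈ Subgroup.center (S ⧸ R) := by
  refine Subgroup.mem_center_iff.2 fun g => ?_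
  obtain ⟨s, rfl⟩ := QuotientGroup.mk'_surjective R g
  rw [← map_mul, ← map_mul, eq_comm]
  refine QuotientGroup.eq.2 ?_
  have := h (Subgroup.commutator_mem_commutator (T.inv_mem hx) (Subgroup.mem_top s⁻¹))
  have e : (x * s)⁻¹ * (s * x) = s⁻¹ * (⁅x⁻¹, s⁆) * s⁻¹⁻¹ := by
    rw [commutatorElement_def]; group
  rw [e]
  exact Subgroup.Normal.conj_mem inferInstance _ (h (Subgroup.commutator_mem_commutator (T.inv_mem hx)
    (Subgroup.mem_top s))) _

/-- The monomial transfer: a homomorphism of `S` into the centre of `S ⧸ R` whose quotient by the `degree`-th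
power is invariant on `T` under the maps fixing `S ⧸ T`. -/
theorem exists_monomial (hS : IsPGroup p S) (hF : F.IsSaturated p) {T R : Subgroup S} [T.Normal] [R.Normal]
    (hT : ∀ y : S, (y : Ω) ∈ F.hyperfocalSubgroup p → y ∈ T) (hTR : ⁅T, (⊤ : Subgroup S)⁆ ≤ R) :
    ∃ (d : ℕ) (β : S →* Subgroup.center (S ⧸ R)), ¬ p ∣ d ∧
      ∀ (P : Subgroup Ω) (φ : P →* Ω) (hφ : φ ∈ F.Hom P) (x : P),
        (⟨x, le_of_hom hφ x.2⟩ : S) ∈ T → (⟨φ x, val_mem hφ x⟩ : S) ∈ T →
        ((β ⟨φ x, val_mem hφ x⟩ : Subgroup.center (S ⧸ R)) : S ⧸ R) =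
          β ⟨x, le_of_hom hφ x.2⟩ *
            (QuotientGroup.mk' R ((⟨x, le_of_hom hφ x.2⟩ : S)⁻¹ * ⟨φ x, val_mem hφ x⟩)) ^ d := by
  classical
  obtain ⟨n, hn, hst, hdeg⟩ := exists_stable hS hF
  set π := QuotientGroup.mk' T with hπ
  set f := QuotientGroup.mk' R with hf
  -- the twisting elements
  have hw' : ∀ j : BIndex n, ∃ w : S, ∀ u v : S, ((u, v) : S × S) ∈ j.1 → π v = π w * π u * (π w)⁻¹ := by
    intro j
    obtain ⟨U, c, hc, hjc⟩ := isFGraph_index hn j
    obtain ⟨w, hw⟩ := exists_conj_mod_hyperfocal hS hF hT hc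
    refine ⟨w, fun u v huv => ?_⟩
    obtain ⟨hu, huv⟩ := hjc.le huv
    rw [show v = ⟨c ⟨u, hu⟩, val_mem hc _⟩ from Subtype.ext huv.symm]
    exact hw ⟨u, hu⟩
  choose w hw using hw'
  let r : ∀ j : BIndex n, S ⧸ sndR j.1 → S := fun j q => q.out
  have hr : ∀ j q, ((r j q : S) : S ⧸ sndR j.1) = q := fun j q => Quotient.out_eq' q
  let B : S × (Σ j : BIndex n, S ⧸ sndR j.1) → BSpace n := fun a =>
    ⟨a.2.1, ((a.1 * r a.2.1 a.2.2 * w a.2.1, r a.2.1 a.2.2) : S × S)⟩
  have hB : Function.Bijective B := by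
    constructor
    · rintro ⟨a, j, q⟩ ⟨a', j', q'⟩ he
      obtain ⟨rfl, he⟩ := Sigma.ext_iff.1 he
      have h1 := QuotientGroup.eq.1 (eq_of_heq he)
      have h2 : q = q' := by
        rw [← hr j q, ← hr j q']
        exact QuotientGroup.eq.2 ⟨_, h1, rfl⟩
      subst h2
      have h1' : (((a * r j q * w j)⁻¹ * (a' * r j q * w j), (r j q)⁻¹ * r j q) : S × S) ∈ j.1 := h1
      rw [inv_mul_cancel] at h1'
      have h3 := back_eq (isFGraph_index hn j) (r := (1 : sndR j.1)) h1'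
      rw [map_one, eq_comm, inv_mul_eq_one] at h3
      rw [mul_right_cancel (mul_right_cancel h3)]
    · rintro ⟨j, q⟩
      obtain ⟨⟨a, b⟩, rfl⟩ := QuotientGroup.mk_surjective q
      have h1 : b⁻¹ * r j (b : S ⧸ sndR j.1) ∈ sndR j.1 := QuotientGroup.eq.1 (hr j _).symm
      refine ⟨(a * back (isFGraph_index hn j) ⟨_, h1⟩ * (w j)⁻¹ * (r j (b : S ⧸ sndR j.1))⁻¹,
        ⟨j, (b : S ⧸ sndR j.1)⟩), Sigma.ext rfl (heq_of_eq ?_)⟩
      refine (QuotientGroup.eq.2 ?_).symm
      simpa [mul_assoc] using back_mem (isFGraph_index hn j) ⟨_, h1⟩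
  let Eq' : S × (Σ j : BIndex n, S ⧸ sndR j.1) ≃ BSpace n := Equiv.ofBijective B hB
  have hsm : ∀ (a a' : S) (i), ((a, 1) : S × S) • Eq' (a', i) = Eq' (a * a', i) := fun a a' i =>
    Sigma.ext rfl (heq_of_eq (congrArg QuotientGroup.mk (Prod.ext (by simp [mul_assoc]) (one_mul _))))
  let d : S → (Σ j : BIndex n, S ⧸ sndR j.1) → S × (Σ j : BIndex n, S ⧸ sndR j.1) := fun s i =>
    Eq'.symm (((1, s) : S × S) • Eq' (1, i))
  have hd : ∀ s a i, ((1, s) : S × S) • Eq' (a, i) = Eq' (a * (d s i).1, (d s i).2) := by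
    intro s a i
    rw [← hsm a (d s i).1 (d s i).2, ← mul_one a, ← hsm, mul_one, ← mul_smul]
    simp only [d, Prod.mk.eta, Equiv.apply_symm_apply]
    rw [← mul_smul]
    exact congrArg (· • Eq' (1, i)) (Prod.ext (by simp) (by simp))
  have hdmul : ∀ s t i, d (s * t) i = ((d t i).1 * (d s (d t i).2).1, (d s (d t i).2).2) := by
    intro s t i
    refine Eq'.symm_apply_eq.2 ?_
    rw [← hd s (d t i).1, ← one_mul (d t i).1, ← hd t 1, ← mul_smul]
    exact congrArg (· • Eq' (1, i)) (Prod.ext (by simp) rfl)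
  have hperm : ∀ s, Function.Bijective fun i => (d s i).2 := by
    intro s
    refine Finite.injective_iff_bijective.1 (Function.LeftInverse.injective (g := fun i => (d s⁻¹ i).2) fun i => ?_)
    have h1 := hdmul s⁻¹ s i
    rw [inv_mul_cancel, show d 1 i = (1, i) from Eq'.symm_apply_eq.2 (by rw [← Prod.one_eq_mk, one_smul])] at h1
    exact (congrArg Prod.snd h1).symm
  -- every cocycle value lies over the inverse of the element
  have hν : ∀ (j : BIndex n) (a b a' b' : S), (((a, b) : S × S) : (S × S) ⧸ j.1) = ((a', b') : S × S) →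
      π a * (π (w j))⁻¹ * (π b)⁻¹ = π a' * (π (w j))⁻¹ * (π b')⁻¹ := by
    intro j a b a' b' he
    have h1 := hw j (a⁻¹ * a') (b⁻¹ * b') (QuotientGroup.eq.1 he)
    rw [map_mul, map_mul, map_inv, map_inv, inv_mul_eq_iff_eq_mul] at h1
    rw [h1]
    group
  have hπd : ∀ s i, π ((d s i).1 * s) = 1 := by
    intro s i
    have h1 : Eq' (d s i) = ((1, s) : S × S) • Eq' (1, i) := Eq'.apply_symm_apply _
    revert h1
    generalize d s i = xi
    obtain ⟨x, j', q'⟩ := xi
    obtain ⟨j, q⟩ := i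
    intro h1
    obtain ⟨hj, h2⟩ := Sigma.ext_iff.1 h1
    change j' = j at hj
    subst hj
    have h3 := hν j' (x * r j' q' * w j') (r j' q') (1 * (1 * r j' q * w j')) (s * r j' q) (eq_of_heq h2)
    simp only [map_mul, one_mul, mul_inv_rev] at h3
    simp only [map_mul]
    calc π x * π s = π x * π (r j' q') * π (w j') * (π (w j'))⁻¹ * (π (r j' q'))⁻¹ * π s := by group
      _ = π (r j' q) * π (w j') * (π (w j'))⁻¹ * ((π (r j' q))⁻¹ * (π s)⁻¹) * π s := by rw [h3]
      _ = 1 := by group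
  haveI : Fintype (Σ j : BIndex n, S ⧸ sndR j.1) := Fintype.ofFinite _
  have hTker : ∀ {y : S}, π y = 1 → y ∈ T := fun h => (QuotientGroup.eq_one_iff _).1 h
  let z : S → (Σ j : BIndex n, S ⧸ sndR j.1) → Subgroup.center (S ⧸ R) := fun s i =>
    ⟨f ((d s i).1 * s), mk_mem_center hTR (hTker (hπd s i))⟩
  have hz : ∀ s t i, z (s * t) i = z t i * z s (d t i).2 := by
    intro s t i
    apply Subtype.ext
    show f ((d (s * t) i).1 * (s * t)) = f ((d t i).1 * t) * f ((d s (d t i).2).1 * s)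
    have hc := Subgroup.mem_center_iff.1 (mk_mem_center hTR (hTker (hπd s (d t i).2))) (f (d t i).1)
    rw [hdmul]
    rw [← hf] at hc
    calc f ((d t i).1 * (d s (d t i).2).1 * (s * t))
        = f (d t i).1 * f ((d s (d t i).2).1 * s) * f t := by simp only [map_mul, mul_assoc]
      _ = f ((d s (d t i).2).1 * s) * f ((d t i).1 * t) := by rw [hc]; simp only [map_mul, mul_assoc]
      _ = f ((d t i).1 * t) * f ((d s (d t i).2).1 * s) :=
          (Subgroup.mem_center_iff.1 (mk_mem_center hTR (hTker (hπd s (d t i).2))) _).symm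
  let β : S →* Subgroup.center (S ⧸ R) := MonoidHom.mk' (fun s => ∏ i, z s i) fun s t => by
    show ∏ i, z (s * t) i = (∏ i, z s i) * ∏ i, z t i
    rw [Finset.prod_congr rfl fun i _ => hz s t i, Finset.prod_mul_distrib, mul_comm]
    exact congrArg (· * _) ((hperm t).prod_comp fun i => z s i)
  refine ⟨degree n, β, hdeg, fun P φ hφ x hxT hφxT => ?_⟩
  set a : S := ⟨x, le_of_hom hφ x.2⟩ with ha
  set b : S := ⟨φ x, val_mem hφ x⟩ with hb
  obtain ⟨g, hg⟩ := exists_conj_of_hom hn hst hφ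
  let y : (Σ j : BIndex n, S ⧸ sndR j.1) → S × (Σ j : BIndex n, S ⧸ sndR j.1) := fun i =>
    Eq'.symm ((g : Equiv.Perm (BSpace n)) (Eq' (1, i)))
  have hgy : ∀ c i, (g : Equiv.Perm (BSpace n)) (Eq' (c, i)) = Eq' (c * (y i).1, (y i).2) := by
    intro c i
    have h1 : Eq' (c, i) = ((c, 1) : S × S) • Eq' (1, i) := by rw [hsm, mul_one]
    rw [h1, g.2, ← hsm]
    simp [y]
  have hτ : Function.Bijective fun i => (y i).2 := by
    refine Finite.injective_iff_bijective.1 fun i i' he => ?_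
    have he' : (y i).2 = (y i').2 := he
    have h1 := hgy ((y i').1 * (y i).1⁻¹) i
    rw [inv_mul_cancel_right, he', ← one_mul (y i').1, ← hgy 1 i', one_mul] at h1
    exact congrArg Prod.snd (Eq'.injective ((g : Equiv.Perm (BSpace n)).injective h1))
  -- conjugating the action of `a` gives that of `b`
  have hrel : ∀ i, (d a i).1 * (y (d a i).2).1 = (y i).1 * (d b (y i).2).1 := by
    intro i
    have h1 : (g : Equiv.Perm (BSpace n)) (((1, a) : S × S) • Eq' (1, i)) =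
        ((1, b) : S × S) • (g : Equiv.Perm (BSpace n)) (Eq' (1, i)) := by
      have h2 : rightHom n b * g = g * rightHom n a := by rw [hb, hg x, inv_mul_cancel_right]
      exact (Equiv.ext_iff.1 (congrArg Subtype.val h2) (Eq' (1, i))).symm
    rw [hd a 1 i, one_mul, hgy, hgy 1 i, one_mul, hd] at h1
    exact congrArg Prod.fst (Eq'.injective h1)
  have hπa : π a = 1 := (QuotientGroup.eq_one_iff _).2 hxT
  have hπb : π b = 1 := (QuotientGroup.eq_one_iff _).2 hφxT
  have hπy : ∀ i, π (y (d a i).2).1 = π (y i).1 := by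
    intro i
    have h1 := congrArg π (hrel i)
    have h2 := hπd a i
    have h3 := hπd b (y i).2
    rw [map_mul, hπa, mul_one] at h2
    rw [map_mul, hπb, mul_one] at h3
    rwa [map_mul, map_mul, h2, h3, one_mul, mul_one] at h1
  -- the correction
  let rep : S → S := fun s => (π s).out
  have hrep : ∀ s : S, π ((rep s)⁻¹ * s) = 1 := fun s => by
    rw [map_mul, map_inv, inv_mul_eq_one]
    exact Quotient.out_eq' (π s)
  let η : (Σ j : BIndex n, S ⧸ sndR j.1) → Subgroup.center (S ⧸ R) := fun i =>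
    ⟨f ((rep (y i).1)⁻¹ * (y i).1), mk_mem_center hTR (hTker (hrep _))⟩
  let e : Subgroup.center (S ⧸ R) := ⟨f (a⁻¹ * b), mk_mem_center hTR (T.mul_mem (T.inv_mem hxT) hφxT)⟩
  have hzi : ∀ i, z b (y i).2 = z a i * ((η i)⁻¹ * η (d a i).2) * e := by
    intro i
    apply Subtype.ext
    show f ((d b (y i).2).1 * b) = f ((d a i).1 * a) *
      ((f ((rep (y i).1)⁻¹ * (y i).1))⁻¹ * f ((rep (y (d a i).2).1)⁻¹ * (y (d a i).2).1)) * f (a⁻¹ * b)
    have hreq : rep (y (d a i).2).1 = rep (y i).1 := congrArg Quotient.out (hπy i)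
    rw [hreq, show (d b (y i).2).1 = (y i).1⁻¹ * ((d a i).1 * (y (d a i).2).1) by
      rw [hrel i, inv_mul_cancel_left]]
    have hu : π ((y i).1⁻¹ * (y (d a i).2).1) = 1 := by rw [map_mul, map_inv, hπy i, inv_mul_cancel]
    have hda : π (d a i).1 = 1 := by
      have h2 := hπd a i
      rwa [map_mul, hπa, mul_one] at h2
    have hc1 := Subgroup.mem_center_iff.1 (mk_mem_center hTR (hTker hda)) (f (y i).1⁻¹)
    have hc2 := Subgroup.mem_center_iff.1 (mk_mem_center hTR hxT) (f ((y i).1⁻¹ * (y (d a i).2).1))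
    rw [← hf] at hc1 hc2
    simp only [map_mul, map_inv, mul_inv_rev, inv_inv] at hc1 hc2 ⊢
    calc (f (y i).1)⁻¹ * (f (d a i).1 * f (y (d a i).2).1) * f b
        = ((f (y i).1)⁻¹ * f (d a i).1) * f (y (d a i).2).1 * f b := by simp only [mul_assoc]
      _ = f (d a i).1 * ((f (y i).1)⁻¹ * f (y (d a i).2).1) * f b := by rw [hc1]; simp only [mul_assoc]
      _ = f (d a i).1 * ((f (y i).1)⁻¹ * f (y (d a i).2).1 * f a) * ((f a)⁻¹ * f b) := by group
      _ = f (d a i).1 * (f a * ((f (y i).1)⁻¹ * f (y (d a i).2).1)) * ((f a)⁻¹ * f b) := by rw [hc2]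
      _ = _ := by group
  show ((∏ i, z b i : Subgroup.center (S ⧸ R)) : S ⧸ R) = ((∏ i, z a i : Subgroup.center (S ⧸ R)) : S ⧸ R) *
    f (a⁻¹ * b) ^ degree n
  have hcard : Fintype.card (Σ j : BIndex n, S ⧸ sndR j.1) = degree n := by
    rw [← Nat.card_eq_fintype_card, Nat.card_sigma, ← sum_index hn]
    rfl
  rw [← hτ.prod_comp fun i => z b i, Finset.prod_congr rfl fun i _ => hzi i, Finset.prod_mul_distrib,
    Finset.prod_mul_distrib, Finset.prod_mul_distrib, Finset.prod_inv_distrib,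
    (hperm a).prod_comp fun i => η i, inv_mul_cancel, mul_one, Finset.prod_const, Finset.card_univ, hcard]
  rfl

end CfsgLib.Fusion
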